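import Groth.Prelude.Def_CInt
import Groth.Prelude.Def_TorSh
import Groth.Agent.FlatInjLib.FreeLocus
import Groth.Agent.RGFlatLib.ModSheaf
import Groth.Agent.FinCovLib.Cover
import Groth.Agent.RichLib.ModFlatGlobal
import Groth.Agent.CohCmpLib.FrameTools
import Groth.Agent.S1535
import Groth.Agent.CommAlgDim.Regular
import Mathlib.RingTheory.Localization.Free

/-!
# Relatively torsion-free flat modules are free at points of fibre codimension at most one
-/

set_option autoImplicit false
set_option linter.style.haveILetI false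
universe u

open CategoryTheory CategoryTheory.Limits AlgebraicGeometry TopologicalSpace Opposite

namespace RhoBigLib

/-- Finite torsion-free modules over a regular local ring of dimension at most one are free. -/
theorem free_of_torsionFree {R M : Type u} [CommRing R] [IsRegularLocalRing R] [IsDomain R]
    (hd : ringKrullDim R ≤ 1) [AddCommGroup M] [Module R M] [Module.Finite R M] [Module.IsTorsionFree R M] :
    Module.Free R M := by
  have hsp : (IsLocalRing.maximalIdeal R).spanFinrank ≤ 1 := by
    have h1 := (inferInstance : IsRegularLocalRing R).spanFinrank_maximalIdeal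
    rw [← h1] at hd
    exact_mod_cast hd
  have hfg : (IsLocalRing.maximalIdeal R).FG := IsNoetherian.noetherian _
  have hprin : (IsLocalRing.maximalIdeal R).IsPrincipal := by
    have hcard := Submodule.FG.generators_ncard hfg
    have hspan := Submodule.span_generators (IsLocalRing.maximalIdeal R)
    rcases Nat.le_one_iff_eq_zero_or_eq_one.mp (hcard.trans_le hsp) with h | h
    · rw [Set.ncard_eq_zero (Submodule.FG.finite_generators hfg)] at h
      rw [h, Submodule.span_empty] at hspan
      exact hspan ▸ bot_isPrincipal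
    · obtain ⟨a, ha⟩ := Set.ncard_eq_one.mp h
      exact ⟨a, by rw [← hspan, ha]⟩
  haveI : IsPrincipalIdealRing R :=
    ((tfae_of_isNoetherianRing_of_isLocalRing_of_isDomain R).out 4 0).mp hprin
  exact Module.free_of_finite_type_torsion_free'

/-- A finitely presented module with a free stalk has free sections on a small affine open. -/
theorem exists_affine_free {X : Scheme.{u}} (F : X.Modules) [Coh.IsQCoh F] (hF : CohB1.IsFP F)
    (x : X) [hfree : Module.Free (X.presheaf.stalk x) (F.presheaf.stalk x)] :
    ∃ V : X.Opens, IsAffineOpen V ∧ x ∈ V ∧ Module.Free Γ(X, V) Γ(F, V) ∧ Module.Finite Γ(X, V) Γ(F, V) := by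
  obtain ⟨W, hW, hxW⟩ := QCohLib.exists_affine_nhd x
  haveI := RGFlatLib.finitePresentation_affine F hF hW
  letI := Module.compHom (F.presheaf.stalk x) (X.presheaf.germ W x hxW).hom
  letI : Algebra Γ(X, W) (X.presheaf.stalk x) := (X.presheaf.germ W x hxW).hom.toAlgebra
  haveI : IsScalarTower Γ(X, W) (X.presheaf.stalk x) (F.presheaf.stalk x) :=
    IsScalarTower.of_algebraMap_smul fun _ _ ↦ rfl
  haveI : IsLocalization.AtPrime (X.presheaf.stalk x) (hW.primeIdealOf ⟨x, hxW⟩).asIdeal :=
    hW.isLocalization_stalk ⟨x, hxW⟩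
  haveI := FlatLib.isLocalizedModule_germLin F hW hxW
  obtain ⟨r, hr, hfreer, -⟩ := Module.FinitePresentation.exists_free_localizedModule_powers
    (hW.primeIdealOf ⟨x, hxW⟩).asIdeal.primeCompl (FlatLib.germLin F hxW) (X.presheaf.stalk x)
  let D := X.basicOpen r
  have hxD : x ∈ D := by
    rw [Scheme.mem_basicOpen X r x hxW]
    exact IsLocalization.map_units (X.presheaf.stalk x) (⟨r, hr⟩ : (hW.primeIdealOf ⟨x, hxW⟩).asIdeal.primeCompl)
  letI : Algebra Γ(X, W) Γ(X, D) := (X.presheaf.map (homOfLE (X.basicOpen_le r)).op).hom.toAlgebra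
  letI : Module Γ(X, W) Γ(F, D) := Module.compHom _ (X.presheaf.map (homOfLE (X.basicOpen_le r)).op).hom
  haveI : IsScalarTower Γ(X, W) Γ(X, D) Γ(F, D) := IsScalarTower.of_algebraMap_smul fun _ _ => rfl
  haveI : IsLocalization.Away r Γ(X, D) := hW.isLocalization_basicOpen r
  haveI := RGFlatLib.isLocalizedModule_resLin F hW r (fun _ _ => rfl)
  -- transport freeness to the sections over the basic open
  let l := LocalizedModule.mkLinearMap (Submonoid.powers r) Γ(F, W)
  let L := RGFlatLib.resLin F (X.basicOpen_le r) (fun _ _ => rfl)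
  let σ : Localization (Submonoid.powers r) ≃+* Γ(X, D) :=
    (IsLocalization.algEquiv (Submonoid.powers r) _ _).toRingEquiv
  let e := IsLocalizedModule.linearEquiv (Submonoid.powers r) l L
  have hsl : ∀ (c : Localization (Submonoid.powers r)) (m : LocalizedModule.Away r Γ(F, W)),
      e (c • m) = σ c • e m := by
    intro c m
    obtain ⟨a, s, rfl⟩ := IsLocalization.exists_mk'_eq (Submonoid.powers r) c
    refine ((Module.End.isUnit_iff _).1 (IsLocalizedModule.map_units L s)).1 ?_
    show (s : Γ(X, W)) • e _ = (s : Γ(X, W)) • (σ _ • e m)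
    rw [← map_smul, ← smul_assoc, ← smul_assoc, Algebra.smul_def, Algebra.smul_def,
      IsLocalization.mk'_spec'_mk _ a (s : Γ(X, W)) s.2]
    have hσ : algebraMap Γ(X, W) Γ(X, D) (s : Γ(X, W)) * σ (IsLocalization.mk' _ a s) = algebraMap _ _ a := by
      rw [← (IsLocalization.algEquiv (Submonoid.powers r) (Localization (Submonoid.powers r)) Γ(X, D)).commutes (s : Γ(X, W))]
      exact (map_mul σ _ _).symm.trans ((congrArg σ (IsLocalization.mk'_spec'_mk _ a (s : Γ(X, W)) s.2)).trans
        ((IsLocalization.algEquiv (Submonoid.powers r) (Localization (Submonoid.powers r)) Γ(X, D)).commutes a))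
    rw [hσ, algebraMap_smul, algebraMap_smul, map_smul]
  haveI hfinr : Module.Finite (Localization (Submonoid.powers r)) (LocalizedModule.Away r Γ(F, W)) :=
    Module.Finite.of_isLocalizedModule (Submonoid.powers r) l
  haveI := hfreer
  letI : RingHomInvPair σ.toRingHom σ.symm.toRingHom := RingHomInvPair.of_ringEquiv σ
  letI : RingHomInvPair σ.symm.toRingHom σ.toRingHom := RingHomInvPair.symm σ.toRingHom σ.symm.toRingHom
  let esl : LocalizedModule.Away r Γ(F, W) ≃ₛₗ[σ.toRingHom] Γ(F, D) :=
    { toFun := e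
      invFun := e.symm
      map_add' := map_add e
      map_smul' := hsl
      left_inv := e.symm_apply_apply
      right_inv := e.apply_symm_apply }
  haveI : Module.Free Γ(X, D) Γ(F, D) := Module.Free.of_equiv esl
  haveI : Module.Finite Γ(X, D) Γ(F, D) := Module.Finite.of_isLocalizedModule (Submonoid.powers r) L
  exact ⟨D, hW.basicOpen r, hxD, inferInstance, inferInstance⟩

/-- A finitely presented module with a free stalk is free nearby. -/
theorem exists_free_nhd_of_free_stalk {X : Scheme.{u}} (F : X.Modules) [Coh.IsQCoh F] (hF : CohB1.IsFP F)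
    (x : X) [Module.Free (X.presheaf.stalk x) (F.presheaf.stalk x)] :
    ∃ (V : X.Opens) (n : ℕ), x ∈ V ∧ Nonempty (F.restrict V.ι ≅ FlatMod.freeMod (↑V) n) := by
  obtain ⟨D, hD, hxD, _, _⟩ := exists_affine_free F hF x
  let n := Fintype.card (Module.Free.ChooseBasisIndex Γ(X, D) Γ(F, D))
  let b : Module.Basis (Fin n) Γ(X, D) Γ(F, D) :=
    (Module.Free.chooseBasis Γ(X, D) Γ(F, D)).reindex (Fintype.equivFin _)
  obtain ⟨φ⟩ := CohCmpLib.exists_iso_freeMod_of_frame (CohCmpLib.isFrame_puSecLE D.ι
    (FinCovLib.isFrame_of_affine_basis hD b) (V := (⊤ : (D : Scheme.{u}).Opens)) (fun z _ => z.2))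
  exact ⟨D, n, hxD, ⟨(Scheme.Modules.restrictFunctorIsoPullback D.ι).app F ≪≫ φ⟩⟩

/-- Relative freeness at points of fibre codimension at most one. -/
theorem exists_free_nhd {X S : Scheme.{u}} (f : X ⟶ S) [Smooth f] (F : X.Modules) (hF : CohB1.IsFP F)
    (hfl : FlatMod.IsFlatOver f F)
    (htf : ∀ s : S, TorSh.IsTorsionFree ((Scheme.Modules.pullback (f.fiberι s)).obj F))
    (x : X) (hx : ringKrullDim ↑(CInt.fiberStalk f x) ≤ 1) :
    ∃ (V : X.Opens) (n : ℕ), x ∈ V ∧ Nonempty (F.restrict V.ι ≅ FlatMod.freeMod (↑V) n) := by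
  haveI : Coh.IsQCoh F := by
    haveI : SheafOfModules.IsFinitePresentation (R := X.ringCatSheaf) F := hF
    infer_instance
  let ι := f.fiberι (f x)
  let y := f.asFiber x
  let Φ := f.fiber (f x)
  letI : Φ.Over (Spec (CommRingCat.of (S.residueField (f x)))) := ⟨f.fiberToSpecResidueField (f x)⟩
  haveI : Smooth (Φ ↘ Spec (CommRingCat.of (S.residueField (f x)))) :=
    MorphismProperty.pullback_snd (P := @Smooth) _ _ ‹Smooth f›
  haveI : IsRegularLocalRing (Φ.presheaf.stalk y) := Groth.Agent.S1535.result (S.residueField (f x)) Φ y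
  haveI : IsDomain (Φ.presheaf.stalk y) := CommAlgDim.isDomain_of_isRegularLocalRing _
  have hFP := RichLib.ModFlat.isFP_pullback ι hF
  haveI : Coh.IsQCoh ((Scheme.Modules.pullback ι).obj F) := KFlatLib.isQCoh_pullback ι F
  haveI : Module.Finite (Φ.presheaf.stalk y) (((Scheme.Modules.pullback ι).obj F).presheaf.stalk y) :=
    haveI := FlatInjLib.finitePresentation_stalk hFP y
    inferInstance
  haveI := htf (f x) y
  have hfree := free_of_torsionFree (R := Φ.presheaf.stalk y)
    (M := ((Scheme.Modules.pullback ι).obj F).presheaf.stalk y) hx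
  have h2 := (FlatInjLib.free_stalk_pullback_iff f F hF hfl (S.fromSpecResidueField (f x))
    (f.fiberToSpecResidueField (f x)) ι (IsPullback.of_hasPullback _ _) y).1 hfree
  have hxy : ι y = x := f.fiberι_asFiber x
  haveI : Module.Free (X.presheaf.stalk x) (F.presheaf.stalk x) := hxy ▸ h2
  exact exists_free_nhd_of_free_stalk F hF x

end RhoBigLib
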