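import Groth.Agent.RhoBigLib.Depth
import Groth.Agent.RhoBigLib.Free
import Groth.Agent.RefHullLib.BigOpen
import Groth.Agent.HyperDRLib.Smooth
import Groth.Agent.S6876
import Mathlib.LinearAlgebra.ExteriorPower.Basis

/-!
# The determinant as a direct image from a big open
-/

set_option autoImplicit false
set_option linter.style.haveILetI false
universe u

open CategoryTheory CategoryTheory.Limits AlgebraicGeometry TopologicalSpace Opposite

namespace RhoBigLib

variable {X : Scheme.{u}} [IsLocallyNoetherian X]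

/-- A dual has depth at least two wherever the structure sheaf has. -/
theorem two_le_depth_dual {F : X.Modules} (hF : Coh.IsCoh F) (x : X)
    (h : (2 : ℕ∞) ≤ LocCoh.depth (X.presheaf.stalk x) (X.presheaf.stalk x)) :
    (2 : ℕ∞) ≤ LocCoh.depth (X.presheaf.stalk x) ((RefHull.dual F).presheaf.stalk x) := by
  obtain ⟨e⟩ := RefHullLib.nonempty_dual_stalk hF x
  haveI := hF.1
  haveI := DepthLib.finite_stalk F hF.2 x
  have h2 := (Groth.Agent.S6876.result (X.presheaf.stalk x) (F.presheaf.stalk x) (X.presheaf.stalk x)).2 h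
  unfold LocCoh.depth at h2 ⊢
  rwa [CommAlgDim.idealDepth_congr _ e]

/-- The double dual is the direct image of its restriction to an open with complement of depth two. -/
theorem isIso_unit_ddual (U : X.Opens) {L : X.Modules} (hL : Coh.IsCoh L)
    (h : ∀ x : X, x ∉ U → (2 : ℕ∞) ≤ LocCoh.depth (X.presheaf.stalk x) (X.presheaf.stalk x)) :
    IsIso ((Scheme.Modules.restrictAdjunction U.ι).unit.app (RefHull.ddual L)) :=
  RefHullLib.isIso_unit_of_depth U (RefHullLib.isCoh_dual (RefHullLib.isCoh_dual hL))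
    fun x hx => two_le_depth_dual (RefHullLib.isCoh_dual hL) x (h x hx)

/-- Exterior powers of coherent modules are coherent. -/
theorem isCoh_of_isExtPow {F L : X.Modules} (hF : Coh.IsCoh F) {h : ℕ} (hL : ExtPow.IsExtPow h F L) :
    Coh.IsCoh L := by
  haveI := hF.1
  haveI := HyperDRLib.isQCoh_extPow hL
  obtain ⟨φ, -⟩ := hL
  refine ⟨inferInstance, QCohLib.isFT_of_finite fun p => ?_⟩
  obtain ⟨V, hV, hpV⟩ := QCohLib.exists_affine_nhd (X := X) p
  haveI := QCohLib.finite_of_isFT hF.2 hV
  haveI : Module.Finite Γ(X, V) (F.val.obj (op V)) := ‹Module.Finite Γ(X, V) Γ(F, V)›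
  exact ⟨V, hV, hpV, Module.Finite.equiv (φ ⟨V, hV⟩).symm⟩

/-- The stalk of an exterior power at a point where the module is free is free. -/
theorem free_stalk_extPow {F L : X.Modules} (hF : Coh.IsCoh F) {h : ℕ} (hL : ExtPow.IsExtPow h F L) (x : X)
    [Module.Free (X.presheaf.stalk x) (F.presheaf.stalk x)] :
    Module.Free (X.presheaf.stalk x) (L.presheaf.stalk x) := by
  haveI := hF.1
  haveI := (isCoh_of_isExtPow hF hL).1
  obtain ⟨φ, -⟩ := hL
  obtain ⟨V, hV, hxV, _, _⟩ := exists_affine_free F (QCohLib.isFP_of_isCoh F hF) x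
  haveI : Module.Free Γ(X, V) (F.val.obj (op V)) := ‹Module.Free Γ(X, V) Γ(F, V)›
  haveI : Module.Finite Γ(X, V) (F.val.obj (op V)) := ‹Module.Finite Γ(X, V) Γ(F, V)›
  haveI : Module.Free Γ(X, V) Γ(L, V) := Module.Free.of_equiv (φ ⟨V, hV⟩).symm
  letI : Algebra Γ(X, V) (X.presheaf.stalk x) := (X.presheaf.germ V x hxV).hom.toAlgebra
  letI : Module Γ(X, V) (L.presheaf.stalk x) := Module.compHom _ (X.presheaf.germ V x hxV).hom
  haveI : IsScalarTower Γ(X, V) (X.presheaf.stalk x) (L.presheaf.stalk x) :=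
    IsScalarTower.of_algebraMap_smul fun _ _ => rfl
  haveI : IsLocalization.AtPrime (X.presheaf.stalk x) (hV.primeIdealOf ⟨x, hxV⟩).asIdeal :=
    hV.isLocalization_stalk ⟨x, hxV⟩
  haveI := FlatLib.isLocalizedModule_germLin L hV hxV
  exact Module.Free.of_basis ((Module.Free.chooseBasis Γ(X, V) Γ(L, V)).ofIsLocalizedModule (X.presheaf.stalk x)
    (hV.primeIdealOf ⟨x, hxV⟩).asIdeal.primeCompl (FlatLib.germLin L hxV))

/-- Biduality of an exterior power over an open where the module is locally free. -/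
theorem isIso_restrict_bidual (U : X.Opens) {F L : X.Modules} (hF : Coh.IsCoh F) {h n : ℕ}
    (hL : ExtPow.IsExtPow h F L) (hFU : FlatMod.IsFinLocFreeOfRank n (F.restrict U.ι)) :
    IsIso ((Scheme.Modules.restrictFunctor U.ι).map (RefHull.bidualMap L)) := by
  refine RefHullLib.isIso_restrict U.ι _ fun v => ?_
  obtain ⟨E⟩ := CurvLib.nonempty_stalk_pi_of_locFree hFU v
  haveI : Module.Free ((U : Scheme.{u}).presheaf.stalk v) ((F.restrict U.ι).presheaf.stalk v) :=
    Module.Free.of_equiv E.symm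
  haveI := (RefHullLib.free_restrict_iff U.ι F v).1 inferInstance
  haveI := free_stalk_extPow hF hL (U.ι v)
  haveI := (isCoh_of_isExtPow hF hL).1
  haveI := DepthLib.finite_stalk L (isCoh_of_isExtPow hF hL).2 (U.ι v)
  exact (RefHullLib.bijective_stalk_bidual_iff (isCoh_of_isExtPow hF hL) (U.ι v)).2
    (inferInstanceAs (Module.IsReflexive (X.presheaf.stalk (U.ι v)) (L.presheaf.stalk (U.ι v))))

end RhoBigLib
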