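import Groth.Agent.CommAlgDim.Depth
import Groth.Agent.NormalLib.Regular

/-!
# Regular pairs inside an ideal with closed-point support; extension across such a pair
-/

set_option autoImplicit false
universe u

open RingTheory.Sequence IsLocalRing

namespace RhoBigLib

/-- A regular local ring of dimension at least two has depth at least two. -/
theorem hasSeqIn_two {F : Type u} [CommRing F] [IsRegularLocalRing F] (hd : 2 ≤ ringKrullDim F) :
    CommAlgDim.HasSeqIn (maximalIdeal F) F 2 := by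
  rw [← CommAlgDim.le_depth_iff]
  have h := hd.trans (NormalLib.le_depth_self_of_isRegularLocalRing F)
  rwa [show (2 : WithBot ℕ∞) = ((2 : ℕ∞) : WithBot ℕ∞) from rfl, WithBot.coe_le_coe] at h

/-- An ideal supported at the closed point of a local ring of depth at least two contains a regular
sequence of length two made of images of a given generating set, up to units. -/
theorem exists_pair {B F : Type u} [CommRing B] [CommRing F] [IsLocalRing F] [IsNoetherianRing F]
    (φ : B →+* F) (J : Ideal B) (hJ : J.map φ ≤ maximalIdeal F)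
    (hpr : ∀ P : Ideal F, P.IsPrime → J.map φ ≤ P → P = maximalIdeal F)
    (hunit : ∀ z ∈ J.map φ, ∃ j ∈ J, ∃ w : F, IsUnit w ∧ z * w = φ j)
    (hd : CommAlgDim.HasSeqIn (maximalIdeal F) F 2) :
    ∃ a ∈ J, ∃ b ∈ J, IsWeaklyRegular F [φ a, φ b] := by
  obtain ⟨a₀, ha₀, hra₀⟩ := CommAlgDim.exists_isSMulRegular_mem (M := F) (I := J.map φ) fun p hp hle => by
    obtain ⟨x, hx, hxr⟩ := CommAlgDim.exists_isSMulRegular_mem (M := F) (I := maximalIdeal F)
      ((CommAlgDim.hasSeqIn_one_iff _).1 (hd.mono one_le_two))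
    exact CommAlgDim.notLe_of_isSMulRegular hx hxr p hp (hpr p hp.isPrime hle).ge
  obtain ⟨a, ha, w, hw, haw⟩ := hunit a₀ ha₀
  have hra : IsSMulRegular F (φ a) := haw ▸ hra₀.mul (hw.isSMulRegular F)
  have hd1 := hd.quotSMulTop (hJ (Ideal.mem_map_of_mem φ ha)) hra
  obtain ⟨b₀, hb₀, hrb₀⟩ := CommAlgDim.exists_isSMulRegular_mem (M := QuotSMulTop (φ a) F) (I := J.map φ)
    fun p hp hle =>
      (CommAlgDim.hasSeqIn_one_iff _).1 hd1 p hp (hpr p hp.isPrime hle).ge
  obtain ⟨b, hb, v, hv, hbv⟩ := hunit b₀ hb₀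
  refine ⟨a, ha, b, hb, IsWeaklyRegular.cons hra (IsWeaklyRegular.cons ?_ (IsWeaklyRegular.nil _ _))⟩
  exact hbv ▸ hrb₀.mul (hv.isSMulRegular _)

theorem pair_iff {A : Type u} [CommRing A] {a b : A} (h : IsWeaklyRegular A [a, b]) :
    (∀ z, a * z = 0 → z = 0) ∧ ∀ z, b * z ∈ Ideal.span {a} → z ∈ Ideal.span {a} := by
  obtain ⟨ha, hb⟩ := (isWeaklyRegular_cons_iff' A a [b]).1 h
  refine ⟨fun z hz => ha (show a • z = a • (0 : A) by rw [smul_zero]; exact hz), fun z hz => ?_⟩
  have hb' := ((isWeaklyRegular_singleton_iff _ _).1 hb)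
  obtain ⟨t, ht⟩ := Ideal.mem_span_singleton'.1 hz
  have h0 : (Submodule.Quotient.mk (b * z) : QuotSMulTop a A) = 0 :=
    (Submodule.Quotient.mk_eq_zero _).2 (Submodule.mem_smul_pointwise_iff_exists _ _ _ |>.2
      ⟨t, trivial, by rw [smul_eq_mul, mul_comm]; exact ht⟩)
  have h1 : (Submodule.Quotient.mk z : QuotSMulTop a A) = 0 := by
    refine hb' (?_ : Ideal.Quotient.mk _ b • _ = Ideal.Quotient.mk _ b • (0 : QuotSMulTop a A))
    rw [smul_zero]
    exact h0
  obtain ⟨s, -, hs⟩ := (Submodule.mem_smul_pointwise_iff_exists _ _ _).1 ((Submodule.Quotient.mk_eq_zero _).1 h1)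
  exact Ideal.mem_span_singleton'.2 ⟨s, by rw [mul_comm]; exact hs⟩

/-- If `b` is regular modulo `a` and `a` is regular, then `b` is regular modulo every power of `a`. -/
theorem regular_mod_pow {A : Type u} [CommRing A] {a b : A} (ha : ∀ z, a * z = 0 → z = 0)
    (hb : ∀ z, b * z ∈ Ideal.span {a} → z ∈ Ideal.span {a}) :
    ∀ (n m : ℕ) (z : A), b ^ m * z ∈ Ideal.span {a ^ n} → z ∈ Ideal.span {a ^ n} := by
  have key : ∀ (n : ℕ) (z : A), b * z ∈ Ideal.span {a ^ n} → z ∈ Ideal.span {a ^ n} := by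
    intro n
    induction n with
    | zero => intro z _; simp
    | succ n ih =>
      intro z hz
      obtain ⟨t, ht⟩ := Ideal.mem_span_singleton'.1 hz
      obtain ⟨z₁, rfl⟩ := Ideal.mem_span_singleton'.1
        (hb z (Ideal.mem_span_singleton'.2 ⟨t * a ^ n, by rw [← ht, pow_succ]; ring⟩))
      have h2 : b * z₁ = t * a ^ n := by
        refine sub_eq_zero.1 (ha _ ?_)
        rw [mul_sub, sub_eq_zero]
        rw [pow_succ] at ht
        linear_combination -ht
      obtain ⟨s, hs⟩ := Ideal.mem_span_singleton'.1 (ih z₁ (Ideal.mem_span_singleton'.2 ⟨t, h2.symm⟩))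
      exact Ideal.mem_span_singleton'.2 ⟨s, by rw [← hs, pow_succ]; ring⟩
  intro n m
  induction m with
  | zero => intro z hz; simpa using hz
  | succ m ih => intro z hz; exact key n z (ih _ (by rw [← mul_assoc, ← pow_succ]; exact hz))

/-- Fractions over `a` and over `b` which agree come from one element. -/
theorem hartogs_pair {A : Type u} [CommRing A] {a b : A} (ha : ∀ z, a * z = 0 → z = 0)
    (hb : ∀ z, b * z ∈ Ideal.span {a} → z ∈ Ideal.span {a}) (α β : A) (n m k : ℕ)
    (h : (a * b) ^ k * (α * b ^ m - β * a ^ n) = 0) : ∃ w, α = a ^ n * w := by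
  have ha' : ∀ (l : ℕ) (z : A), a ^ l * z = 0 → z = 0 := by
    intro l
    induction l with
    | zero => intro z hz; simpa using hz
    | succ l ih => intro z hz; exact ih z (ha _ (by rw [← mul_assoc, ← pow_succ']; exact hz))
  rw [mul_pow, mul_assoc] at h
  obtain ⟨w, hw⟩ := Ideal.mem_span_singleton'.1 (regular_mod_pow ha hb n (m + k) α
    (Ideal.mem_span_singleton'.2 ⟨β * b ^ k, by linear_combination -(ha' k _ h)⟩))
  exact ⟨w, by rw [← hw, mul_comm]⟩

end RhoBigLib
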