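import Groth.Agent.RhoBigLib.Nhd
import Mathlib.RingTheory.Regular.Flat

/-!
# Depth at a point of fibre codimension at least two
-/

set_option autoImplicit false
set_option linter.style.haveILetI false
universe u

open CategoryTheory CategoryTheory.Limits AlgebraicGeometry TopologicalSpace Opposite

namespace RhoBigLib

theorem two_le_depth {X S : Scheme.{u}} (f : X ⟶ S) [Smooth f] (x : X)
    (hd : (2 : WithBot ℕ∞) ≤ ringKrullDim ↑(CInt.fiberStalk f x)) :
    (2 : ℕ∞) ≤ LocCoh.depth ↑(X.presheaf.stalk x) ↑(X.presheaf.stalk x) := by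
  let U' : X.Opens := ⟨(closure {x})ᶜ, isClosed_closure.isOpen_compl⟩
  have hxU : x ∉ U' := fun h => h (subset_closure rfl)
  obtain ⟨W, hW, hxW, -, a, b, haU, hbU, hab⟩ := exists_good_nhd f hd U' hxU
    (fun y hys hne hy => hne (hys.antisymm (specializes_iff_mem_closure.2 hy)).eq) ⊤ trivial
  letI := X.presheaf.algebra_section_stalk ⟨x, hxW⟩
  let q := hW.primeIdealOf ⟨x, hxW⟩
  haveI : IsLocalization.AtPrime (X.presheaf.stalk x) q.asIdeal := hW.isLocalization_stalk ⟨x, hxW⟩
  haveI : Module.Flat Γ(X, W) (X.presheaf.stalk x) := IsLocalization.flat _ q.asIdeal.primeCompl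
  have hmem : ∀ c : Γ(X, W), X.basicOpen c ≤ U' →
      algebraMap Γ(X, W) (X.presheaf.stalk x) c ∈ IsLocalRing.maximalIdeal (X.presheaf.stalk x) := fun c hc hu => by
    refine hxU (hc ?_)
    rw [Scheme.mem_basicOpen X c x hxW]
    exact hu
  unfold LocCoh.depth LocCoh.idealDepth
  split_ifs with htop
  · exact le_top
  · refine le_iSup₂_of_le [algebraMap _ (X.presheaf.stalk x) a, algebraMap _ (X.presheaf.stalk x) b]
      ⟨hab.of_flat (S := X.presheaf.stalk x), ?_⟩ le_rfl
    intro r hr
    simp only [List.mem_cons, List.not_mem_nil, or_false] at hr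
    rcases hr with rfl | rfl
    exacts [hmem a haU, hmem b hbU]

end RhoBigLib
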