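import Groth.Agent.RhoBigLib.Nhd
import Groth.Agent.AlgSpLib.CodimZero

/-!
# Sections across a subset of fibre codimension at least two
-/

set_option autoImplicit false
set_option linter.style.haveILetI false
universe u

open CategoryTheory CategoryTheory.Limits AlgebraicGeometry TopologicalSpace Opposite

namespace RhoBigLib

variable {X : Scheme.{u}}

/-- A point of a closed subset has a generization in it which is not properly generized inside it. -/
theorem exists_minimal_point (Z : Set X) (hZ : IsClosed Z) (x₀ : X) (h₀ : x₀ ∈ Z) :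
    ∃ x ∈ Z, x ⤳ x₀ ∧ ∀ y ∈ Z, y ⤳ x → y = x := by
  haveI : QuasiSober Z := hZ.isClosedEmbedding_subtypeVal.quasiSober
  let z₀ : Z := ⟨x₀, h₀⟩
  obtain ⟨ξ, hξ⟩ := QuasiSober.sober (isIrreducible_irreducibleComponent (x := z₀)) isClosed_irreducibleComponent
  refine ⟨ξ.1, ξ.2, (hξ.specializes mem_irreducibleComponent).map continuous_subtype_val, fun y hy hys => ?_⟩
  have h1 : (⟨y, hy⟩ : Z) ⤳ ξ := (subtype_specializes_iff _ _).2 hys
  have h2 : irreducibleComponent z₀ ⊆ closure {(⟨y, hy⟩ : Z)} := by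
    rw [← hξ.def]
    exact specializes_iff_closure_subset.1 h1
  have h3 := eq_irreducibleComponent isIrreducible_singleton.closure.isPreirreducible h2
  have h4 : ξ ⤳ (⟨y, hy⟩ : Z) := hξ.specializes (h3 ▸ subset_closure rfl)
  exact congrArg Subtype.val (h1.antisymm h4).eq

theorem map_eq_map {U V : X.Opens} (z : Γ(X, U)) {i j : V ⟶ U} :
    X.presheaf.map i.op z = X.presheaf.map j.op z := by
  rw [Subsingleton.elim i j]

theorem map_map {U V W : X.Opens} (h : W ≤ V) (h' : V ≤ U) (z : Γ(X, U)) :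
    X.presheaf.map (homOfLE h).op (X.presheaf.map (homOfLE h').op z) =
      X.presheaf.map (homOfLE (h.trans h')).op z := by
  rw [← ConcreteCategory.comp_apply, ← Functor.map_comp]
  rfl

/-- On an affine open where `a` is a nonzerodivisor, sections are determined away from its zero locus. -/
theorem eq_zero_of_res_basicOpen {W : X.Opens} (hW : IsAffineOpen W) {a : Γ(X, W)}
    (ha : ∀ z, a * z = 0 → z = 0) {O : X.Opens} (hO : O ≤ W) (z : Γ(X, O))
    (h : X.presheaf.map (homOfLE (inf_le_left : O ⊓ X.basicOpen a ≤ O)).op z = 0) : z = 0 := by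
  refine Sep43Lib.eq_zero_of_forall_nhds z fun y hy => ?_
  obtain ⟨g, hgO, hyg⟩ := QCohLib.exists_basicOpen_nhd hW (V := O) hy (hO hy)
  refine ⟨X.basicOpen g, hgO, hyg, ?_⟩
  haveI := hW.isLocalization_basicOpen g
  set z' := X.presheaf.map (homOfLE hgO).op z with hz'
  obtain ⟨⟨w, ⟨_, k, rfl⟩⟩, hw⟩ := IsLocalization.surj (Submonoid.powers g) z'
  change z' * algebraMap _ _ (g ^ k) = algebraMap _ _ w at hw
  have hu : IsUnit (algebraMap Γ(X, W) Γ(X, X.basicOpen g) (g ^ k)) :=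
    IsLocalization.map_units _ (⟨g ^ k, k, rfl⟩ : Submonoid.powers g)
  suffices hw0 : algebraMap Γ(X, W) Γ(X, X.basicOpen g) w = 0 by
    rw [hw0] at hw
    exact hu.mul_left_eq_zero.1 hw
  have hle : X.basicOpen (g * a) ≤ X.basicOpen g := by rw [Scheme.basicOpen_mul]; exact inf_le_left
  have hle2 : X.basicOpen (g * a) ≤ O ⊓ X.basicOpen a := by
    rw [Scheme.basicOpen_mul]; exact inf_le_inf_right _ hgO
  have h0 : X.presheaf.map (homOfLE (X.basicOpen_le (g * a))).op w = 0 := by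
    have h1 := congrArg (X.presheaf.map (homOfLE hle).op) hw
    rw [map_mul, hz', map_map, ← map_map hle2 inf_le_left, h, map_zero, zero_mul] at h1
    rw [h1]
    exact (map_map hle (X.basicOpen_le g) w).symm
  obtain ⟨n, hn⟩ := Sep43Lib.exists_pow_mul_of_res hW (g * a) w h0
  have ha' : ∀ (l : ℕ) (z : Γ(X, W)), a ^ l * z = 0 → z = 0 := by
    intro l
    induction l with
    | zero => intro z hz; simpa using hz
    | succ l ih => intro z hz; exact ih z (ha _ (by rw [← mul_assoc, ← pow_succ']; exact hz))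
  have h2 : g ^ n * w = 0 := ha' n _ (by rw [← mul_assoc, ← mul_pow, mul_comm a g]; exact hn)
  refine (IsLocalization.map_eq_zero_iff (Submonoid.powers g) _ _).2 ⟨⟨g ^ n, n, rfl⟩, h2⟩

/-- Sections over the union of the nonvanishing loci of a regular pair extend. -/
theorem exists_extend_pair {W : X.Opens} (hW : IsAffineOpen W) {a b : Γ(X, W)}
    (ha : ∀ z, a * z = 0 → z = 0) (hb : ∀ z, b * z ∈ Ideal.span {a} → z ∈ Ideal.span {a})
    {U' : X.Opens} (haU : X.basicOpen a ≤ U') (hbU : X.basicOpen b ≤ U') (t : Γ(X, U')) :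
    ∃ w : Γ(X, W), X.presheaf.map (homOfLE (X.basicOpen_le a)).op w = X.presheaf.map (homOfLE haU).op t := by
  haveI := hW.isLocalization_basicOpen a
  haveI := hW.isLocalization_basicOpen b
  haveI := hW.isLocalization_basicOpen (a * b)
  obtain ⟨⟨α, ⟨_, n, rfl⟩⟩, hα⟩ := IsLocalization.surj (Submonoid.powers a) (X.presheaf.map (homOfLE haU).op t)
  obtain ⟨⟨β, ⟨_, m, rfl⟩⟩, hβ⟩ := IsLocalization.surj (Submonoid.powers b) (X.presheaf.map (homOfLE hbU).op t)
  change X.presheaf.map (homOfLE haU).op t * X.presheaf.map (homOfLE (X.basicOpen_le a)).op (a ^ n) =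
    X.presheaf.map (homOfLE (X.basicOpen_le a)).op α at hα
  change X.presheaf.map (homOfLE hbU).op t * X.presheaf.map (homOfLE (X.basicOpen_le b)).op (b ^ m) =
    X.presheaf.map (homOfLE (X.basicOpen_le b)).op β at hβ
  have hla : X.basicOpen (a * b) ≤ X.basicOpen a := by rw [Scheme.basicOpen_mul]; exact inf_le_left
  have hlb : X.basicOpen (a * b) ≤ X.basicOpen b := by rw [Scheme.basicOpen_mul]; exact inf_le_right
  have h1 := congrArg (X.presheaf.map (homOfLE hla).op) hα
  have h2 := congrArg (X.presheaf.map (homOfLE hlb).op) hβ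
  rw [map_mul, map_map, map_map, map_map] at h1 h2
  have h3 : X.presheaf.map (homOfLE (X.basicOpen_le (a * b))).op (α * b ^ m - β * a ^ n) = 0 := by
    rw [map_sub, map_mul, map_mul, ← h1, ← h2]
    ring
  obtain ⟨k, hk⟩ := Sep43Lib.exists_pow_mul_of_res hW (a * b) _ h3
  obtain ⟨w, rfl⟩ := hartogs_pair ha hb α β n m k hk
  refine ⟨w, ?_⟩
  have hu : IsUnit (X.presheaf.map (homOfLE (X.basicOpen_le a)).op (a ^ n)) :=
    IsLocalization.map_units Γ(X, X.basicOpen a) (⟨a ^ n, n, rfl⟩ : Submonoid.powers a)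
  rw [map_mul, mul_comm] at hα
  exact (hu.mul_left_cancel hα).symm

variable {S : Scheme.{u}} (f : X ⟶ S) [Smooth f] (U : X.Opens)
  (hU : ∀ x : X, x ∉ U → (2 : WithBot ℕ∞) ≤ ringKrullDim ↑(CInt.fiberStalk f x))

include hU in
/-- An open subset whose complement has fibre codimension at least two is schematically dense. -/
theorem isSchematicallyDense : CInt.IsSchematicallyDense U := by
  intro V
  rw [injective_iff_map_eq_zero]
  intro t ht
  let U' : X.Opens := (⨆ W : {W : X.Opens // ∃ h : W ≤ V, X.presheaf.map (homOfLE h).op t = 0}, W.1)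
  have hVU : V ⊓ U ≤ U' := le_iSup (fun W : {W : X.Opens // ∃ h : W ≤ V, X.presheaf.map (homOfLE h).op t = 0} => W.1)
    ⟨V ⊓ U, inf_le_left, ht⟩
  have hzero : ∀ (O : X.Opens) (hO : O ≤ V), O ≤ U' → X.presheaf.map (homOfLE hO).op t = 0 := fun O hO hOU =>
    Sep43Lib.eq_zero_of_forall_nhds _ fun y hy => by
      obtain ⟨⟨W, hW, hW0⟩, hyW⟩ := Opens.mem_iSup.1 (hOU hy)
      refine ⟨O ⊓ W, inf_le_left, ⟨hy, hyW⟩, ?_⟩
      rw [map_map, ← map_map (inf_le_right : O ⊓ W ≤ W) hW, hW0, map_zero]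
  suffices hVle : V ≤ U' by
    refine Sep43Lib.eq_zero_of_forall_nhds t fun y hy => ⟨V, le_rfl, hy, ?_⟩
    exact hzero V le_rfl hVle
  intro x₀ hx₀
  by_contra hx₀U
  obtain ⟨x, hxZ, hxs, hmin⟩ := exists_minimal_point _ U'.isOpen.isClosed_compl x₀ hx₀U
  have hxV : x ∈ V := hxs.mem_open V.isOpen hx₀
  have hxU : x ∉ U := fun h => hxZ (hVU ⟨hxV, h⟩)
  obtain ⟨W, hW, hxW, hWV, a, b, haU, -, hab⟩ := exists_good_nhd f (hU x hxU) U' hxZ
    (fun y hy hne => by_contra fun h => hne (hmin y h hy)) V hxV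
  refine hxZ (Opens.mem_iSup.2 ⟨⟨W, hWV, ?_⟩, hxW⟩)
  refine eq_zero_of_res_basicOpen hW (pair_iff hab).1 le_rfl _ ?_
  rw [map_map]
  exact hzero _ _ (inf_le_right.trans haU)

include hU in
/-- Sections extend uniquely across a subset of fibre codimension at least two. -/
theorem bijective_res (V : X.Opens) :
    Function.Bijective (X.presheaf.map (homOfLE (inf_le_left : V ⊓ U ≤ V)).op) := by
  have hdense := isSchematicallyDense f U hU
  refine ⟨hdense V, fun s => ?_⟩
  let ι := Σ' (W : X.Opens) (h : W ≤ V), {t : Γ(X, W) // X.presheaf.map (homOfLE inf_le_left).op t =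
    X.presheaf.map (homOfLE (inf_le_inf_right U h)).op s}
  let U' : X.Opens := ⨆ i : ι, i.1
  have hcompat : TopCat.Presheaf.IsCompatible X.presheaf (fun i : ι => i.1) (fun i => i.2.2.1) := by
    intro i j
    refine hdense _ ?_
    change X.presheaf.map (homOfLE inf_le_left).op (X.presheaf.map (homOfLE inf_le_left).op i.2.2.1) =
      X.presheaf.map (homOfLE inf_le_left).op (X.presheaf.map (homOfLE inf_le_right).op j.2.2.1)
    rw [map_map, map_map, ← map_map (show i.1 ⊓ j.1 ⊓ U ≤ i.1 ⊓ U from inf_le_inf_right _ inf_le_left) inf_le_left,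
      ← map_map (show i.1 ⊓ j.1 ⊓ U ≤ j.1 ⊓ U from inf_le_inf_right _ inf_le_right) inf_le_left,
      i.2.2.2, j.2.2.2, map_map, map_map]
  obtain ⟨t, ht, -⟩ := X.sheaf.existsUnique_gluing' (fun i : ι => i.1) U'
    (fun i => homOfLE (le_iSup (fun i : ι => i.1) i)) le_rfl (fun i => i.2.2.1) hcompat
  have htS : X.presheaf.map (homOfLE (inf_le_left : U' ⊓ U ≤ U')).op t =
      X.presheaf.map (homOfLE (inf_le_inf_right U (iSup_le fun i : ι => i.2.1))).op s := by
    rw [← sub_eq_zero]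
    refine Sep43Lib.eq_zero_of_forall_nhds _ fun y hy => ?_
    obtain ⟨i, hi⟩ := Opens.mem_iSup.1 hy.1
    refine ⟨i.1 ⊓ U, inf_le_inf_right U (le_iSup (fun i : ι => i.1) i), ⟨hi, hy.2⟩, ?_⟩
    rw [map_sub, map_map, map_map, sub_eq_zero, ← map_map (inf_le_left : i.1 ⊓ U ≤ i.1)
      (le_iSup (fun i : ι => i.1) i)]
    exact (congrArg _ (ht i)).trans i.2.2.2
  suffices hVle : V ≤ U' by
    refine ⟨X.presheaf.map (homOfLE hVle).op t, ?_⟩
    rw [map_map, ← map_map (inf_le_inf_right U hVle) inf_le_left, htS, map_map]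
    exact congr($(X.presheaf.map_id _) s)
  have hVU : V ⊓ U ≤ U' := le_iSup (fun i : ι => i.1)
    ⟨V ⊓ U, inf_le_left, s, map_eq_map s⟩
  intro x₀ hx₀
  by_contra hx₀U
  obtain ⟨x, hxZ, hxs, hmin⟩ := exists_minimal_point _ U'.isOpen.isClosed_compl x₀ hx₀U
  have hxV : x ∈ V := hxs.mem_open V.isOpen hx₀
  have hxU : x ∉ U := fun h => hxZ (hVU ⟨hxV, h⟩)
  obtain ⟨W, hW, hxW, hWV, a, b, haU, hbU, hab⟩ := exists_good_nhd f (hU x hxU) U' hxZ
    (fun y hy hne => by_contra fun h => hne (hmin y h hy)) V hxV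
  obtain ⟨hra, hrb⟩ := pair_iff hab
  obtain ⟨w, hw⟩ := exists_extend_pair hW hra hrb haU hbU t
  refine hxZ (Opens.mem_iSup.2 ⟨⟨W, hWV, w, ?_⟩, hxW⟩)
  rw [← sub_eq_zero]
  refine eq_zero_of_res_basicOpen hW hra inf_le_left _ ?_
  have hle : W ⊓ U ⊓ X.basicOpen a ≤ U' ⊓ U := le_inf (inf_le_right.trans haU) (inf_le_left.trans inf_le_right)
  rw [map_sub, map_map, map_map, sub_eq_zero,
    ← map_map (inf_le_right : W ⊓ U ⊓ X.basicOpen a ≤ X.basicOpen a) (X.basicOpen_le a), hw, map_map,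
    ← map_map hle inf_le_left, htS, map_map]

end RhoBigLib
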