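import Groth.Agent.RhoBigLib.Extend

/-!
# Extending sections of affine morphisms
-/

set_option autoImplicit false
set_option linter.style.haveILetI false
universe u

open CategoryTheory CategoryTheory.Limits AlgebraicGeometry TopologicalSpace Opposite

namespace RhoBigLib

theorem bijective_homOfLE_appTop {X : Scheme.{u}} {W O : X.Opens} (e : O ≤ W)
    (h : Function.Bijective (X.presheaf.map (homOfLE e).op)) : Function.Bijective (X.homOfLE e).appTop := by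
  rw [Scheme.homOfLE_appTop]
  have hO : (O.ι ''ᵁ ⊤ : X.Opens) = O := O.ι_image_top
  have hW : (W.ι ''ᵁ ⊤ : X.Opens) = W := W.ι_image_top
  have : X.presheaf.map (homOfLE <| X.ι_image_homOfLE_le_ι_image e ⊤).op =
      X.presheaf.map (eqToHom hW.symm).op ≫ X.presheaf.map (homOfLE e).op ≫
        X.presheaf.map (eqToHom hO).op := by
    rw [← Functor.map_comp, ← Functor.map_comp]
    congr 1
  rw [this]
  exact ((ConcreteCategory.bijective_of_isIso (X.presheaf.map (eqToHom hO).op)).comp h).comp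
    (ConcreteCategory.bijective_of_isIso (X.presheaf.map (eqToHom hW.symm).op))

variable {X Y : Scheme.{u}} (U : X.Opens) (p : Y ⟶ X) [IsAffineHom p]
  (hU : ∀ V : X.Opens, Function.Bijective (X.presheaf.map (homOfLE (inf_le_left : V ⊓ U ≤ V)).op))

include hU in
/-- Two sections of an affine morphism over an open agreeing on the dense part agree. -/
theorem hom_ext_section (O : X.Opens) (g g' : (O : Scheme.{u}) ⟶ Y) (hg : g ≫ p = O.ι) (hg' : g' ≫ p = O.ι)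
    (h : X.homOfLE (inf_le_left : O ⊓ U ≤ O) ≫ g = X.homOfLE inf_le_left ≫ g') : g = g' := by
  refine Scheme.Cover.hom_ext ((O : Scheme.{u}).openCoverOfIsOpenCover (fun W : {W : X.Opens // IsAffineOpen W ∧ W ≤ O} =>
    O.ι ⁻¹ᵁ W.1) ?_) _ _ fun W => ?_
  · refine TopologicalSpace.IsOpenCover.mk (top_le_iff.1 fun y _ => ?_)
    obtain ⟨W, hW, hyW, hWO⟩ := Opens.isBasis_iff_nbhd.mp X.isBasis_affineOpens (U := O) (x := O.ι y) y.2
    exact Opens.mem_iSup.2 ⟨⟨W, hW, hWO⟩, hyW⟩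
  obtain ⟨W, hW, hWO⟩ := W
  show (O.ι ⁻¹ᵁ W).ι ≫ g = (O.ι ⁻¹ᵁ W).ι ≫ g'
  suffices X.homOfLE hWO ≫ g = X.homOfLE hWO ≫ g' by
    have hι : ((O.ι ⁻¹ᵁ W).ι ≫ O.ι) = (O.ι ⁻¹ᵁ W).ι ≫ O.ι := rfl
    obtain ⟨k, hk⟩ : ∃ k : ((O.ι ⁻¹ᵁ W : (O : Scheme.{u}).Opens) : Scheme.{u}) ⟶ (W : Scheme.{u}),
        k ≫ W.ι = (O.ι ⁻¹ᵁ W).ι ≫ O.ι := ⟨O.ι ∣_ W, morphismRestrict_ι _ _⟩
    have hk' : k ≫ X.homOfLE hWO = (O.ι ⁻¹ᵁ W).ι := by
      rw [← cancel_mono O.ι, Category.assoc, Scheme.homOfLE_ι, hk]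
    rw [← hk', Category.assoc, Category.assoc, this]
  have hpW : IsAffineOpen (p ⁻¹ᵁ W) := hW.preimage p
  have hrange : ∀ (φ : (O : Scheme.{u}) ⟶ Y), φ ≫ p = O.ι →
      ∃ l : (W : Scheme.{u}) ⟶ (p ⁻¹ᵁ W : Y.Opens), l ≫ (p ⁻¹ᵁ W).ι = X.homOfLE hWO ≫ φ := fun φ hφ => by
    refine ⟨IsOpenImmersion.lift (p ⁻¹ᵁ W).ι (X.homOfLE hWO ≫ φ) ?_, IsOpenImmersion.lift_fac _ _ _⟩
    rintro _ ⟨z, rfl⟩
    rw [Scheme.Opens.range_ι]
    show p ((X.homOfLE hWO ≫ φ) z) ∈ W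
    rw [← Scheme.Hom.comp_apply, Category.assoc, hφ, Scheme.homOfLE_ι]
    exact z.2
  obtain ⟨l, hl⟩ := hrange g hg
  obtain ⟨l', hl'⟩ := hrange g' hg'
  rw [← hl, ← hl']
  congr 1
  haveI : IsAffine (p ⁻¹ᵁ W : Y.Opens) := hpW
  refine ext_of_isAffine ?_
  have hbij := bijective_homOfLE_appTop (inf_le_left : W ⊓ U ≤ W) (hU W)
  have heq : X.homOfLE (inf_le_left : W ⊓ U ≤ W) ≫ l = X.homOfLE inf_le_left ≫ l' := by
    rw [← cancel_mono (p ⁻¹ᵁ W).ι, Category.assoc, Category.assoc, hl, hl', Scheme.homOfLE_homOfLE_assoc,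
      Scheme.homOfLE_homOfLE_assoc,
      ← Scheme.homOfLE_homOfLE_assoc X (inf_le_inf_right U hWO) (inf_le_left : O ⊓ U ≤ O), h,
      Scheme.homOfLE_homOfLE_assoc]
  have heq' := congrArg Scheme.Hom.appTop heq
  rw [Scheme.Hom.comp_appTop, Scheme.Hom.comp_appTop] at heq'
  ext1
  exact RingHom.ext fun z => hbij.1 congr($heq' z)

include hU in
/-- A section of an affine morphism over the dense part extends uniquely. -/
theorem existsUnique_section (s : (U : Scheme.{u}) ⟶ Y) (hs : s ≫ p = U.ι) :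
    ∃! t : X ⟶ Y, t ≫ p = 𝟙 X ∧ U.ι ≫ t = s := by
  let ι := {W : X.Opens // IsAffineOpen W}
  have hloc : ∀ W : ι, ∃ t : ((W.1 : X.Opens) : Scheme.{u}) ⟶ Y, t ≫ p = W.1.ι ∧
      X.homOfLE (inf_le_left : W.1 ⊓ U ≤ W.1) ≫ t = X.homOfLE inf_le_right ≫ s := by
    rintro ⟨W, hW⟩
    have hbij := bijective_homOfLE_appTop (inf_le_left : W ⊓ U ≤ W) (hU W)
    haveI : IsIso (X.homOfLE (inf_le_left : W ⊓ U ≤ W)).appTop := (ConcreteCategory.isIso_iff_bijective _).2 hbij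
    haveI : IsAffine (p ⁻¹ᵁ W : Y.Opens) := hW.preimage p
    haveI : IsAffine (W : Scheme.{u}) := hW
    let l : (↑(W ⊓ U) : Scheme.{u}) ⟶ (p ⁻¹ᵁ W : Y.Opens) :=
      IsOpenImmersion.lift (p ⁻¹ᵁ W).ι (X.homOfLE inf_le_right ≫ s) (by
        rintro _ ⟨z, rfl⟩
        rw [Scheme.Opens.range_ι]
        show p ((X.homOfLE inf_le_right ≫ s) z) ∈ W
        rw [← Scheme.Hom.comp_apply, Category.assoc, hs, Scheme.homOfLE_ι]
        exact z.2.1)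
    let t : (W : Scheme.{u}) ⟶ (p ⁻¹ᵁ W : Y.Opens) := (W : Scheme.{u}).toSpecΓ ≫
      Spec.map (l.appTop ≫ inv (X.homOfLE (inf_le_left : W ⊓ U ≤ W)).appTop) ≫
        ((p ⁻¹ᵁ W : Y.Opens) : Scheme.{u}).isoSpec.inv
    have ht : X.homOfLE (inf_le_left : W ⊓ U ≤ W) ≫ t = l := by
      rw [← cancel_mono ((p ⁻¹ᵁ W : Y.Opens) : Scheme.{u}).isoSpec.hom]
      simp only [t, Category.assoc, Iso.inv_hom_id, Category.comp_id]
      rw [Scheme.toSpecΓ_naturality_assoc, ← Spec.map_comp, Category.assoc, IsIso.inv_hom_id, Category.comp_id,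
        ← Scheme.toSpecΓ_naturality]
      rfl
    refine ⟨t ≫ (p ⁻¹ᵁ W).ι, ?_, by rw [reassoc_of% ht, IsOpenImmersion.lift_fac]⟩
    have h1 : (t ≫ (p ⁻¹ᵁ W).ι) ≫ p = (t ≫ p ∣_ W) ≫ W.ι :=
      (Category.assoc t _ _).trans ((congrArg (t ≫ ·) (morphismRestrict_ι p W).symm).trans (Category.assoc t _ _).symm)
    rw [h1]
    suffices t ≫ p ∣_ W = 𝟙 _ by rw [this, Category.id_comp]
    refine ext_of_isAffine ?_
    have h2 : X.homOfLE (inf_le_left : W ⊓ U ≤ W) ≫ t ≫ p ∣_ W = X.homOfLE inf_le_left ≫ 𝟙 _ := by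
      rw [reassoc_of% ht, ← cancel_mono W.ι, Category.assoc, morphismRestrict_ι, IsOpenImmersion.lift_fac_assoc,
        Category.assoc, hs, Scheme.homOfLE_ι, Category.comp_id, Scheme.homOfLE_ι]
    have h3 := congrArg Scheme.Hom.appTop h2
    rw [Scheme.Hom.comp_appTop _ (t ≫ p ∣_ W), Scheme.Hom.comp_appTop _ (𝟙 _)] at h3
    exact (cancel_mono _).1 h3
  choose t ht htU using hloc
  let 𝒰 : X.OpenCover := X.openCoverOfIsOpenCover (fun W : ι => W.1) (TopologicalSpace.IsOpenCover.mk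
    (top_le_iff.1 fun y _ => by
      obtain ⟨W, hW, hyW⟩ := QCohLib.exists_affine_nhd (X := X) y
      exact Opens.mem_iSup.2 ⟨⟨W, hW⟩, hyW⟩))
  have hov : ∀ (W W' : ι), X.homOfLE (inf_le_left : W.1 ⊓ W'.1 ≤ W.1) ≫ t W =
      X.homOfLE (inf_le_right : W.1 ⊓ W'.1 ≤ W'.1) ≫ t W' := by
    intro W W'
    refine hom_ext_section U p hU _ _ _ (by rw [Category.assoc, ht, Scheme.homOfLE_ι])
      (by rw [Category.assoc, ht, Scheme.homOfLE_ι]) ?_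
    rw [Scheme.homOfLE_homOfLE_assoc, Scheme.homOfLE_homOfLE_assoc,
      ← Scheme.homOfLE_homOfLE_assoc X (inf_le_inf_right U inf_le_left) (inf_le_left : W.1 ⊓ U ≤ W.1), htU,
      ← Scheme.homOfLE_homOfLE_assoc X (inf_le_inf_right U inf_le_right) (inf_le_left : W'.1 ⊓ U ≤ W'.1), htU,
      Scheme.homOfLE_homOfLE_assoc, Scheme.homOfLE_homOfLE_assoc]
  have hcompat : ∀ W W' : ι, pullback.fst (𝒰.f W) (𝒰.f W') ≫ t W = pullback.snd _ _ ≫ t W' := by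
    intro W W'
    obtain ⟨k, hk1, hk2⟩ : ∃ k : pullback (W.1.ι) (W'.1.ι) ⟶ (↑(W.1 ⊓ W'.1) : Scheme.{u}),
        k ≫ X.homOfLE inf_le_left = pullback.fst _ _ ∧ k ≫ X.homOfLE inf_le_right = pullback.snd _ _ := by
      refine ⟨IsOpenImmersion.lift (W.1 ⊓ W'.1).ι (pullback.fst _ _ ≫ W.1.ι) ?_, ?_, ?_⟩
      · rintro _ ⟨z, rfl⟩
        rw [Scheme.Opens.range_ι]
        refine ⟨?_, ?_⟩
        · rw [Scheme.Hom.comp_apply]; exact (pullback.fst W.1.ι W'.1.ι z).2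
        · rw [pullback.condition, Scheme.Hom.comp_apply]; exact (pullback.snd W.1.ι W'.1.ι z).2
      · rw [← cancel_mono W.1.ι, Category.assoc, Scheme.homOfLE_ι, IsOpenImmersion.lift_fac]
      · rw [← cancel_mono W'.1.ι, Category.assoc, Scheme.homOfLE_ι, IsOpenImmersion.lift_fac, pullback.condition]
    show pullback.fst W.1.ι W'.1.ι ≫ t W = pullback.snd _ _ ≫ t W'
    rw [← hk1, ← hk2, Category.assoc, Category.assoc, hov]
  let T : X ⟶ Y := Scheme.Cover.glueMorphisms 𝒰 t hcompat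
  have hT : ∀ W : ι, W.1.ι ≫ T = t W := fun W => Scheme.Cover.ι_glueMorphisms 𝒰 t hcompat W
  have hTp : T ≫ p = 𝟙 X := Scheme.Cover.hom_ext 𝒰 _ _ fun W => by
    show W.1.ι ≫ T ≫ p = W.1.ι ≫ 𝟙 X
    rw [reassoc_of% (hT W), ht, Category.comp_id]
  refine ⟨T, ⟨hTp, ?_⟩, fun T' ⟨hT'p, hT'U⟩ => ?_⟩
  · refine Scheme.Cover.hom_ext ((U : Scheme.{u}).openCoverOfIsOpenCover (fun W : ι => U.ι ⁻¹ᵁ W.1)
      (TopologicalSpace.IsOpenCover.mk (top_le_iff.1 fun y _ => by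
        obtain ⟨W, hW, hyW⟩ := QCohLib.exists_affine_nhd (X := X) (U.ι y)
        exact Opens.mem_iSup.2 ⟨⟨W, hW⟩, hyW⟩))) _ _ fun W => ?_
    show (U.ι ⁻¹ᵁ W.1).ι ≫ U.ι ≫ T = (U.ι ⁻¹ᵁ W.1).ι ≫ s
    obtain ⟨k, hk⟩ : ∃ k : ((U.ι ⁻¹ᵁ W.1 : (U : Scheme.{u}).Opens) : Scheme.{u}) ⟶ (↑(W.1 ⊓ U) : Scheme.{u}),
        k ≫ X.homOfLE inf_le_right = (U.ι ⁻¹ᵁ W.1).ι := by
      refine ⟨IsOpenImmersion.lift (W.1 ⊓ U).ι ((U.ι ⁻¹ᵁ W.1).ι ≫ U.ι) ?_, ?_⟩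
      · rintro _ ⟨z, rfl⟩
        rw [Scheme.Opens.range_ι]
        exact ⟨z.2, ((U.ι ⁻¹ᵁ W.1).ι z).2⟩
      · rw [← cancel_mono U.ι, Category.assoc, Scheme.homOfLE_ι, IsOpenImmersion.lift_fac]
    rw [← hk, Category.assoc, Category.assoc, ← htU W, Scheme.homOfLE_ι_assoc,
      ← Scheme.homOfLE_ι X (inf_le_left : W.1 ⊓ U ≤ W.1), Category.assoc, hT]
  · refine Scheme.Cover.hom_ext 𝒰 _ _ fun W => ?_
    show W.1.ι ≫ T' = W.1.ι ≫ T
    refine hom_ext_section U p hU W.1 _ _ (by rw [Category.assoc, hT'p, Category.comp_id])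
      (by rw [Category.assoc, hTp, Category.comp_id]) ?_
    rw [hT, htU, Scheme.homOfLE_ι_assoc, ← hT'U, Scheme.homOfLE_ι_assoc]

end RhoBigLib
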