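import Groth.Agent.RhoBigLib.Algebra
import Groth.Agent.FlatLib.SchemeFlat
import Groth.Agent.FlatLib.SliceCM
import Groth.Agent.CMFlatLib.FibreDepth
import Groth.Agent.S1535
import Groth.Agent.Sep43Lib.Dense

/-!
# A regular pair near a point of large fibre codimension
-/

set_option autoImplicit false
set_option linter.style.haveILetI false
universe u

open CategoryTheory CategoryTheory.Limits AlgebraicGeometry TopologicalSpace Opposite

namespace RhoBigLib

variable {X S : Scheme.{u}} (f : X ⟶ S)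

/-- Sections regular on the fibre through a point are regular near the point. -/
theorem exists_basicOpen_weaklyRegular [LocallyOfFinitePresentation f] {x : X}
    (hflat : (f.stalkMap x).hom.Flat) {U₀ : S.Opens} (hU₀ : IsAffineOpen U₀) {V : X.Opens} (hV : IsAffineOpen V)
    (hVU : V ≤ f ⁻¹ᵁ U₀) (hxV : x ∈ V) (hs' : List Γ(X, V))
    (hmem : ∀ c ∈ hs', X.presheaf.germ V x hxV c ∈ IsLocalRing.maximalIdeal (X.presheaf.stalk x))
    (hreg : RingTheory.Sequence.IsWeaklyRegular
      (↑(X.presheaf.stalk x) ⧸ Ideal.map (f.stalkMap x).hom (IsLocalRing.maximalIdeal ↑(S.presheaf.stalk (f x))))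
      (hs'.map fun c => Ideal.Quotient.mk (Ideal.map (f.stalkMap x).hom (IsLocalRing.maximalIdeal ↑(S.presheaf.stalk (f x))))
        (X.presheaf.germ V x hxV c))) :
    ∃ g : Γ(X, V), x ∈ X.basicOpen g ∧ RingTheory.Sequence.IsWeaklyRegular Γ(X, X.basicOpen g)
      (hs'.map (X.presheaf.map (homOfLE (X.basicOpen_le g)).op).hom) := by
  classical
  let mS := Ideal.map (f.stalkMap x).hom (IsLocalRing.maximalIdeal ↑(S.presheaf.stalk (f x)))
  have hfp := f.finitePresentation_appLE hU₀ hV hVU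
  algebraize [(f.appLE U₀ V hVU).hom]
  let q := hV.primeIdealOf ⟨x, hxV⟩
  let p := q.asIdeal.comap (algebraMap Γ(S, U₀) Γ(X, V))
  let pS := hU₀.primeIdealOf ⟨f x, hVU hxV⟩
  have hpp : pS.asIdeal = p :=
    congrArg PrimeSpectrum.asIdeal (IsAffineOpen.comap_primeIdealOf_appLE U₀ hU₀ V hV hVU hxV).symm
  letI := X.presheaf.algebra_section_stalk ⟨x, hxV⟩
  haveI : IsLocalization.AtPrime (X.presheaf.stalk x) q.asIdeal := hV.isLocalization_stalk ⟨x, hxV⟩
  letI := S.presheaf.algebra_section_stalk ⟨f x, hVU hxV⟩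
  haveI : IsLocalization.AtPrime (S.presheaf.stalk (f x)) pS.asIdeal := hU₀.isLocalization_stalk ⟨f x, hVU hxV⟩
  have hI : mS = (p.map (algebraMap Γ(S, U₀) Γ(X, V))).map (algebraMap Γ(X, V) (X.presheaf.stalk x)) := by
    show Ideal.map _ _ = _
    rw [← IsLocalization.AtPrime.map_eq_maximalIdeal pS.asIdeal (S.presheaf.stalk (f x)), Ideal.map_map,
      Ideal.map_map, hpp]
    refine congrArg (fun φ : Γ(S, U₀) →+* X.presheaf.stalk x ↦ p.map φ) (RingHom.ext fun r => ?_)
    show (S.presheaf.germ U₀ (f x) (hVU hxV) ≫ f.stalkMap x) r = (f.appLE U₀ V hVU ≫ X.presheaf.germ V x hxV) r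
    rw [Scheme.Hom.germ_stalkMap, Scheme.Hom.appLE, Category.assoc, X.presheaf.germ_res]
  have hbq : ∀ b ∈ hs', b ∈ q.asIdeal := fun b hb => by
    rw [← IsLocalization.AtPrime.to_map_mem_maximal_iff (X.presheaf.stalk x) q.asIdeal]
    exact hmem b hb
  have hqflat := (FlatLib.flat_stalkMap_iff U₀ hU₀ V hV hVU hxV).mp hflat
  have hfib : ∀ (i : ℕ) (hi : i < hs'.length) (m : Γ(X, V)),
      (∃ t ∉ q.asIdeal, t * (hs'[i] * m) ∈ Ideal.ofList (hs'.take i) ⊔ p.map (algebraMap Γ(S, U₀) Γ(X, V))) →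
      ∃ t ∉ q.asIdeal, t * m ∈ Ideal.ofList (hs'.take i) ⊔ p.map (algebraMap Γ(S, U₀) Γ(X, V)) := by
    intro i hi m htm
    let O := X.presheaf.stalk x
    let π := Ideal.Quotient.mk mS
    let K : Ideal Γ(X, V) := Ideal.ofList (hs'.take i)
    let hsF := hs'.map fun c => π (algebraMap Γ(X, V) O c)
    have hK : (K.map (algebraMap Γ(X, V) O)).map π = Ideal.ofList (hsF.take i) := by
      rw [Ideal.map_ofList, Ideal.map_ofList, List.map_map, ← List.map_take]
      rfl
    have key : ∀ z : Γ(X, V), (∃ t ∉ q.asIdeal, t * z ∈ K ⊔ p.map (algebraMap Γ(S, U₀) Γ(X, V))) ↔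
        π (algebraMap Γ(X, V) O z) ∈ Ideal.ofList (hsF.take i) := fun z => by
      rw [← hK, ← Ideal.mem_comap, Ideal.comap_map_of_surjective _ Ideal.Quotient.mk_surjective,
        show Ideal.comap π ⊥ = mS from Ideal.mk_ker, hI, ← Ideal.map_sup,
        IsLocalization.algebraMap_mem_map_algebraMap_iff q.asIdeal.primeCompl]
      exact ⟨fun ⟨t, ht, h⟩ => ⟨t, ht, h⟩, fun ⟨t, ht, h⟩ => ⟨t, ht, h⟩⟩
    rw [key] at htm ⊢
    have hi' : i < hsF.length := by rw [List.length_map]; exact hi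
    have hget : hsF[i] = π (algebraMap Γ(X, V) O hs'[i]) := List.getElem_map _
    have h := hreg.regular_mod_prev i hi'
    rw [isSMulRegular_quotient_iff_mem_of_smul_mem] at h
    have h2 := h (π (algebraMap Γ(X, V) O m)) (by
      rw [smul_eq_mul, smul_eq_mul, Ideal.mul_top]
      show hsF[i] * _ ∈ Ideal.ofList (hsF.take i)
      rw [hget, ← map_mul, ← map_mul]
      exact htm)
    rwa [smul_eq_mul, Ideal.mul_top] at h2
  obtain ⟨O₁, hO₁, hqO₁, hregO, -⟩ := FlatLib.exists_open_slices q hs' hbq hqflat hfib hs'.length le_rfl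
  obtain ⟨_, ⟨g, rfl⟩, hqg, hgO⟩ :=
    PrimeSpectrum.isTopologicalBasis_basic_opens.exists_subset_of_mem_open hqO₁ hO₁
  refine ⟨g, ?_, ?_⟩
  · rw [Scheme.mem_basicOpen X g x hxV]
    exact IsLocalization.map_units (X.presheaf.stalk x) (⟨g, hqg⟩ : q.asIdeal.primeCompl)
  · letI : Algebra Γ(X, V) Γ(X, X.basicOpen g) := (X.presheaf.map (homOfLE (X.basicOpen_le g)).op).hom.toAlgebra
    haveI : IsLocalization.Away g Γ(X, X.basicOpen g) := hV.isLocalization_basicOpen g
    exact FlatLib.isWeaklyRegular_away hs' g _ fun i hi q' hq' => hregO i hi hi q' (hgO hq')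

/-- The stalk of the fibre of a smooth morphism is a regular local ring. -/
theorem isRegularLocalRing_fib [Smooth f] (x : X) :
    IsRegularLocalRing (↑(X.presheaf.stalk x) ⧸ Ideal.map (f.stalkMap x).hom
      (IsLocalRing.maximalIdeal ↑(S.presheaf.stalk (f x)))) := by
  obtain ⟨e⟩ := CMFlatLib.nonempty_fibre_equiv f x
  let F := f.fiber (f x)
  letI : F.Over (Spec (CommRingCat.of (S.residueField (f x)))) := ⟨f.fiberToSpecResidueField (f x)⟩
  haveI : Smooth (F ↘ Spec (CommRingCat.of (S.residueField (f x)))) :=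
    MorphismProperty.pullback_snd (P := @Smooth) _ _ ‹Smooth f›
  haveI : IsRegularLocalRing (F.presheaf.stalk (f.asFiber x)) :=
    Groth.Agent.S1535.result (S.residueField (f x)) F (f.asFiber x)
  exact IsRegularLocalRing.of_ringEquiv e

theorem ringKrullDim_fib (x : X) :
    ringKrullDim (↑(X.presheaf.stalk x) ⧸ Ideal.map (f.stalkMap x).hom
      (IsLocalRing.maximalIdeal ↑(S.presheaf.stalk (f x)))) = ringKrullDim ↑(CInt.fiberStalk f x) := by
  obtain ⟨e⟩ := CMFlatLib.nonempty_fibre_equiv f x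
  exact (ringKrullDim_eq_of_ringEquiv e).symm

/-- Near a point of fibre codimension at least two all of whose proper generizations lie in an open
subset there is a regular pair of functions whose nonvanishing loci lie in that subset. -/
theorem exists_good_nhd [Smooth f] {x : X} (hd : (2 : WithBot ℕ∞) ≤ ringKrullDim ↑(CInt.fiberStalk f x))
    (U' : X.Opens) (hxU : x ∉ U') (hgen : ∀ y : X, y ⤳ x → y ≠ x → y ∈ U') (O : X.Opens) (hxO : x ∈ O) :
    ∃ (W : X.Opens) (_ : IsAffineOpen W) (_ : x ∈ W) (_ : W ≤ O) (a b : Γ(X, W)),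
      X.basicOpen a ≤ U' ∧ X.basicOpen b ≤ U' ∧ RingTheory.Sequence.IsWeaklyRegular Γ(X, W) [a, b] := by
  obtain ⟨U₀, hU₀, hxU₀⟩ := QCohLib.exists_affine_nhd (f x)
  obtain ⟨V, hV, hxV, hVle⟩ :=
    Opens.isBasis_iff_nbhd.mp X.isBasis_affineOpens (U := O ⊓ f ⁻¹ᵁ U₀) (x := x) ⟨hxO, hxU₀⟩
  let St := X.presheaf.stalk x
  let mS := Ideal.map (f.stalkMap x).hom (IsLocalRing.maximalIdeal ↑(S.presheaf.stalk (f x)))
  let π : St →+* St ⧸ mS := Ideal.Quotient.mk mS
  haveI : IsRegularLocalRing (St ⧸ mS) := isRegularLocalRing_fib f x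
  letI := X.presheaf.algebra_section_stalk ⟨x, hxV⟩
  let q := hV.primeIdealOf ⟨x, hxV⟩
  haveI : IsLocalization.AtPrime St q.asIdeal := hV.isLocalization_stalk ⟨x, hxV⟩
  let J : Ideal Γ(X, V) := Sep43Lib.openIdeal (UX := V) U'
  have hJq : J ≤ q.asIdeal := fun j hj => by
    by_contra hjq
    refine hxU (hj ?_)
    rw [Scheme.mem_basicOpen X j x hxV]
    exact IsLocalization.map_units St (⟨j, hjq⟩ : q.asIdeal.primeCompl)
  haveI : IsLocalHom π := IsLocalHom.of_surjective π Ideal.Quotient.mk_surjective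
  let φ : Γ(X, V) →+* St ⧸ mS := π.comp (algebraMap Γ(X, V) St)
  have hJm : J.map φ ≤ IsLocalRing.maximalIdeal (St ⧸ mS) := by
    rw [Ideal.map_le_iff_le_comap]
    intro j hj hu
    have hu' : IsUnit (π (algebraMap Γ(X, V) St j)) := hu
    exact (IsLocalization.AtPrime.to_map_mem_maximal_iff St q.asIdeal j).2 (hJq hj)
      (IsUnit.of_map π _ hu')
  have hpr : ∀ P : Ideal (St ⧸ mS), P.IsPrime → J.map φ ≤ P → P = IsLocalRing.maximalIdeal _ := by
    intro P hP hle
    haveI := hP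
    let P₁ : Ideal St := P.comap π
    let P₀ : Ideal Γ(X, V) := P₁.comap (algebraMap Γ(X, V) St)
    have hJP : J ≤ P₀ := fun j hj => (Ideal.map_le_iff_le_comap (f := φ)).1 hle hj
    have hP₀q : P₀ ≤ q.asIdeal := fun c hc => by
      by_contra hcq
      exact (inferInstance : P₁.IsPrime).ne_top
        (Ideal.eq_top_of_isUnit_mem _ hc (IsLocalization.map_units St (⟨c, hcq⟩ : q.asIdeal.primeCompl)))
    let y : X := hV.fromSpec ⟨P₀, inferInstance⟩
    have hy : y ⤳ x := by
      have h1 : (⟨P₀, inferInstance⟩ : PrimeSpectrum Γ(X, V)) ⤳ q :=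
        (PrimeSpectrum.le_iff_specializes _ _).1 hP₀q
      have h2 := h1.map hV.fromSpec.continuous
      rwa [hV.fromSpec_primeIdealOf] at h2
    have hyU : y ∉ U' := fun hyU => by
      obtain ⟨j, hj, hyj⟩ := QCohLib.exists_basicOpen_nhd hV (V := U') hyU (hV.range_fromSpec.le ⟨_, rfl⟩)
      have hmem : (⟨P₀, inferInstance⟩ : Spec Γ(X, V)) ∈ hV.fromSpec ⁻¹ᵁ X.basicOpen j := hyj
      rw [hV.fromSpec_preimage_basicOpen] at hmem
      exact hmem (hJP hj)
    have hyx : y = x := by_contra fun h => hyU (hgen y hy h)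
    have hq : (⟨P₀, inferInstance⟩ : PrimeSpectrum Γ(X, V)) = q := by
      refine hV.fromSpec.isOpenEmbedding.injective ?_
      show y = hV.fromSpec q
      rw [hyx, hV.fromSpec_primeIdealOf]
    have hP₀ : P₀ = q.asIdeal := congrArg PrimeSpectrum.asIdeal hq
    have hP₁ : P₁ = IsLocalRing.maximalIdeal St := by
      refine le_antisymm (IsLocalRing.le_maximalIdeal (inferInstance : P₁.IsPrime).ne_top) ?_
      rw [← IsLocalization.AtPrime.map_eq_maximalIdeal q.asIdeal St, Ideal.map_le_iff_le_comap]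
      exact hP₀.ge
    refine le_antisymm (IsLocalRing.le_maximalIdeal hP.ne_top) fun z hz => ?_
    obtain ⟨w, rfl⟩ := Ideal.Quotient.mk_surjective z
    have hw : w ∈ IsLocalRing.maximalIdeal St := fun hu => hz (hu.map π)
    exact (hP₁ ▸ hw : w ∈ P₁)
  have hunit : ∀ z ∈ J.map φ, ∃ j ∈ J, ∃ w : St ⧸ mS, IsUnit w ∧ z * w = φ j := by
    intro z hz
    rw [← Ideal.map_map] at hz
    obtain ⟨y, hy, rfl⟩ := (Ideal.mem_map_iff_of_surjective π Ideal.Quotient.mk_surjective).1 hz
    obtain ⟨⟨⟨j, hj⟩, t⟩, ht⟩ := (IsLocalization.mem_map_algebraMap_iff q.asIdeal.primeCompl St).1 hy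
    refine ⟨j, hj, π (algebraMap _ _ (t : Γ(X, V))), (IsLocalization.map_units St t).map π, ?_⟩
    rw [← map_mul]
    exact congrArg π ht
  obtain ⟨a, ha, b, hb, hab⟩ := exists_pair φ J hJm hpr hunit
    (hasSeqIn_two (hd.trans (ringKrullDim_fib f x).ge))
  obtain ⟨g, hxg, hg⟩ := exists_basicOpen_weaklyRegular f (Flat.stalkMap f x) hU₀ hV
    (hVle.trans inf_le_right) hxV [a, b] (by
      intro c hc
      refine (IsLocalization.AtPrime.to_map_mem_maximal_iff St q.asIdeal c).2 (hJq ?_)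
      simp only [List.mem_cons, List.not_mem_nil, or_false] at hc
      rcases hc with rfl | rfl <;> assumption) hab
  refine ⟨X.basicOpen g, hV.basicOpen g, hxg, (X.basicOpen_le g).trans (hVle.trans inf_le_left),
    X.presheaf.map (homOfLE (X.basicOpen_le g)).op a, X.presheaf.map (homOfLE (X.basicOpen_le g)).op b,
    ?_, ?_, hg⟩
  · rw [Scheme.basicOpen_res]; exact inf_le_right.trans ha
  · rw [Scheme.basicOpen_res]; exact inf_le_right.trans hb

end RhoBigLib
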